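import Groth.Agent.GrpSchLib.Tangent
import Mathlib.AlgebraicGeometry.PullbackCarrier
import Mathlib.AlgebraicGeometry.Gluing
import Mathlib.LinearAlgebra.TensorProduct.RightExactness
import Mathlib.RingTheory.TensorProduct.Maps

/-! Affine charts of `X ⊗ Spec C` over a field. -/

universe u

open CategoryTheory CategoryTheory.Limits AlgebraicGeometry MonoidalCategory CartesianMonoidalCategory
  TopologicalSpace Opposite
open scoped TensorProduct

noncomputable section

set_option backward.isDefEq.respectTransparency false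
set_option backward.isDefEq.respectTransparency.types false
set_option linter.style.haveILetI false

namespace Groth.Agent.AutTan16

open GrpSchLib

variable {k : Type u} [Field k] {X : Over (Spec (CommRingCat.of k))}

/-- The functions on an affine open, as a `k`-algebra. -/
def strHom (U : X.left.affineOpens) : CommRingCat.of k ⟶ Γ(X.left, U.1) :=
  (Scheme.ΓSpecIso (CommRingCat.of k)).inv ≫ X.hom.appLE ⊤ U.1 le_top

instance chartAlg (U : X.left.affineOpens) : Algebra k Γ(X.left, U.1) := (strHom U).hom.toAlgebra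

theorem algebraMap_eq (U : X.left.affineOpens) (c : k) :
    algebraMap k Γ(X.left, U.1) c = X.hom.appLE ⊤ U.1 le_top ((Scheme.ΓSpecIso (CommRingCat.of k)).inv c) := rfl

theorem fromSpec_comp (U : X.left.affineOpens) :
    U.2.fromSpec ≫ X.hom = Spec.map (CommRingCat.ofHom (algebraMap k Γ(X.left, U.1))) := by
  show _ = Spec.map (strHom U)
  rw [strHom, Spec.map_comp, ← Scheme.isoSpec_Spec_inv, ← IsAffineOpen.fromSpec_top]
  exact (IsAffineOpen.SpecMap_appLE_fromSpec X.hom (isAffineOpen_top _) U.2 le_top).symm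

/-- The inclusion of an affine open, over `k`. -/
def ch (U : X.left.affineOpens) : specOver k Γ(X.left, U.1) ⟶ X :=
  Over.homMk U.2.fromSpec (fromSpec_comp U)

/-- Restriction of functions between affine opens. -/
def rs {U V : X.left.affineOpens} (h : U.1 ≤ V.1) : Γ(X.left, V.1) →ₐ[k] Γ(X.left, U.1) :=
  { (X.left.presheaf.map (homOfLE h).op).hom with
    commutes' := fun c =>
      ConcreteCategory.congr_hom (X.hom.appLE_map (U := ⊤) le_top (homOfLE h).op)
        ((Scheme.ΓSpecIso (CommRingCat.of k)).inv c) }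

theorem rs_apply {U V : X.left.affineOpens} (h : U.1 ≤ V.1) (a : Γ(X.left, V.1)) :
    rs h a = X.left.presheaf.map (homOfLE h).op a := rfl

theorem ch_res {U V : X.left.affineOpens} (h : U.1 ≤ V.1) : specHom (rs h) ≫ ch V = ch U := by
  ext1
  exact V.2.map_fromSpec U.2 (homOfLE h).op

/-- An algebra map is determined by its morphism into a chart. -/
theorem ch_comp_injective (U : X.left.affineOpens) {B : Type u} [CommRing B] [Algebra k B]
    {ψ ψ' : Γ(X.left, U.1) →ₐ[k] B} (h : specHom ψ ≫ ch U = specHom ψ' ≫ ch U) : ψ = ψ' := by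
  have h' : Spec.map (CommRingCat.ofHom ψ.toRingHom) ≫ U.2.fromSpec =
      Spec.map (CommRingCat.ofHom ψ'.toRingHom) ≫ U.2.fromSpec := congrArg CommaMorphism.left h
  rw [cancel_mono, Spec.map_inj] at h'
  exact AlgHom.ext fun x => congr($h' x)

/-- A morphism with values in a chart comes from an algebra map. -/
theorem exists_ch_comp (U : X.left.affineOpens) {B : Type u} [CommRing B] [Algebra k B]
    (f : specOver k B ⟶ X) (h : ∀ x, f.left x ∈ U.1) :
    ∃ ψ : Γ(X.left, U.1) →ₐ[k] B, specHom ψ ≫ ch U = f := by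
  have hr : Set.range f.left ⊆ Set.range U.2.fromSpec := by
    rw [U.2.range_fromSpec]
    rintro _ ⟨x, rfl⟩
    exact h x
  obtain ⟨φ, hφ⟩ := Spec.map_surjective (IsOpenImmersion.lift U.2.fromSpec f.left hr)
  have hf : Spec.map φ ≫ U.2.fromSpec = f.left := by rw [hφ, IsOpenImmersion.lift_fac]
  have hk : CommRingCat.ofHom (algebraMap k Γ(X.left, U.1)) ≫ φ = CommRingCat.ofHom (algebraMap k B) := by
    refine Spec.map_injective ?_
    rw [Spec.map_comp, ← fromSpec_comp, ← Category.assoc, hf]
    exact Over.w f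
  refine ⟨{ φ.hom with commutes' := fun c => congr($hk c) }, ?_⟩
  ext1
  exact hf

variable {C : Type u} [CommRing C] [Algebra k C]

/-- The chart of `X ⊗ Spec C` over an affine open. -/
def pch (U : X.left.affineOpens) (C : Type u) [CommRing C] [Algebra k C] :
    specOver k (Γ(X.left, U.1) ⊗[k] C) ⟶ X ⊗ specOver k C :=
  lift (specHom Algebra.TensorProduct.includeLeft ≫ ch U) (specHom Algebra.TensorProduct.includeRight)

@[reassoc]
theorem pch_fst (U : X.left.affineOpens) :
    pch U C ≫ fst X (specOver k C) = specHom Algebra.TensorProduct.includeLeft ≫ ch U := lift_fst _ _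

@[reassoc]
theorem pch_snd (U : X.left.affineOpens) :
    pch U C ≫ snd X (specOver k C) = specHom Algebra.TensorProduct.includeRight := lift_snd _ _

theorem pch_left (U : X.left.affineOpens) :
    (pch U C).left = (pullbackSpecIso k Γ(X.left, U.1) C).inv ≫
      pullback.map _ _ X.hom (specOver k C).hom U.2.fromSpec (𝟙 _) (𝟙 _)
        ((Category.comp_id _).trans (fromSpec_comp U).symm) ((Category.comp_id _).trans (Category.id_comp _).symm) := by
  apply pullback.hom_ext
  · refine (congrArg CommaMorphism.left (pch_fst (C := C) U)).trans ?_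
    rw [Category.assoc, pullback.lift_fst, pullbackSpecIso_inv_fst_assoc]
    rfl
  · refine (congrArg CommaMorphism.left (pch_snd (C := C) U)).trans ?_
    rw [Category.assoc, pullback.lift_snd, Category.comp_id]
    exact (pullbackSpecIso_inv_snd k Γ(X.left, U.1) C).symm

instance (U : X.left.affineOpens) : IsOpenImmersion (pch U C).left := by
  rw [pch_left]; infer_instance

theorem mem_range_pch (U : X.left.affineOpens) (z : ((X ⊗ specOver k C).left : Scheme.{u}))
    (hz : (fst X (specOver k C)).left z ∈ U.1) : z ∈ Set.range (pch U C).left := by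
  obtain ⟨t, ht⟩ : z ∈ Set.range (pullback.map (Spec.map (CommRingCat.ofHom (algebraMap k Γ(X.left, U.1))))
      (Spec.map (CommRingCat.ofHom (algebraMap k C))) X.hom (specOver k C).hom U.2.fromSpec (𝟙 _) (𝟙 _)
        ((Category.comp_id _).trans (fromSpec_comp U).symm) ((Category.comp_id _).trans (Category.id_comp _).symm)) := by
    rw [Scheme.Pullback.range_map]
    refine ⟨?_, ⟨_, rfl⟩⟩
    show (fst X (specOver k C)).left z ∈ Set.range U.2.fromSpec
    rw [U.2.range_fromSpec]
    exact hz
  obtain ⟨w, rfl⟩ := (pullbackSpecIso k Γ(X.left, U.1) C).inv.surjective t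
  exact ⟨w, by rw [pch_left]; exact ht⟩

theorem pch_fst_mem (U : X.left.affineOpens) (x : (specOver k (Γ(X.left, U.1) ⊗[k] C)).left) :
    ((pch U C) ≫ fst X (specOver k C)).left x ∈ U.1 := by
  rw [pch_fst]
  have : U.2.fromSpec ((specHom (K := k) (Algebra.TensorProduct.includeLeft :
      Γ(X.left, U.1) →ₐ[k] Γ(X.left, U.1) ⊗[k] C)).left x) ∈ Set.range U.2.fromSpec := ⟨_, rfl⟩
  rw [U.2.range_fromSpec] at this
  exact this

theorem pch_res {U V : X.left.affineOpens} (h : U.1 ≤ V.1) :
    specHom (Algebra.TensorProduct.map (rs h) (AlgHom.id k C)) ≫ pch V C = pch U C := by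
  refine CartesianMonoidalCategory.hom_ext _ _ ?_ ?_
  · rw [Category.assoc, pch_fst, pch_fst, ← Category.assoc, specHom_comp,
      Algebra.TensorProduct.map_comp_includeLeft, ← specHom_comp, Category.assoc, ch_res]
  · rw [Category.assoc, pch_snd, pch_snd, specHom_comp, Algebra.TensorProduct.map_comp_includeRight,
      AlgHom.comp_id]

theorem pch_whiskerLeft (U : X.left.affineOpens) {C' : Type u} [CommRing C'] [Algebra k C'] (π : C →ₐ[k] C') :
    pch U C' ≫ (X ◁ specHom π) = specHom (Algebra.TensorProduct.map (AlgHom.id k Γ(X.left, U.1)) π) ≫ pch U C := by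
  refine CartesianMonoidalCategory.hom_ext _ _ ?_ ?_
  · rw [Category.assoc, Category.assoc, whiskerLeft_fst, pch_fst, pch_fst, ← Category.assoc, specHom_comp,
      Algebra.TensorProduct.map_comp_includeLeft, AlgHom.comp_id]
  · rw [Category.assoc, Category.assoc, whiskerLeft_snd, pch_snd_assoc, pch_snd, specHom_comp, specHom_comp,
      Algebra.TensorProduct.map_comp_includeRight]

/-- Morphisms out of `X ⊗ Spec C` are determined on the charts. -/
theorem prod_hom_ext {Y : Over (Spec (CommRingCat.of k))} {f g : X ⊗ specOver k C ⟶ Y}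
    (h : ∀ U : X.left.affineOpens, pch U C ≫ f = pch U C ≫ g) : f = g := by
  refine Over.OverMorphism.ext (Scheme.hom_ext_of_forall _ _ fun z => ?_)
  obtain ⟨_, ⟨U, hU, rfl⟩, hzU, -⟩ := X.left.isBasis_affineOpens.exists_subset_of_mem_open
    (Set.mem_univ ((fst X (specOver k C)).left z)) isOpen_univ
  refine ⟨(pch ⟨U, hU⟩ C).left.opensRange, mem_range_pch ⟨U, hU⟩ z hzU, ?_⟩
  rw [← cancel_epi (pch ⟨U, hU⟩ C).left.isoOpensRange.hom, Scheme.Hom.isoOpensRange_hom_ι_assoc,
    Scheme.Hom.isoOpensRange_hom_ι_assoc]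
  exact congrArg CommaMorphism.left (h ⟨U, hU⟩)

end Groth.Agent.AutTan16

end
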