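import Groth.Agent.AutTan16.Main
import Groth.Agent.GrpSchLib.BlanchardQS
import Groth.Agent.GrpSchLib.Coincidence

/-! Automorphisms descending along a fibration form a closed subgroup scheme. -/

universe u

open CategoryTheory CategoryTheory.Limits AlgebraicGeometry MonoidalCategory CartesianMonoidalCategory
  TopologicalSpace MonObj GrpObj

noncomputable section

set_option backward.isDefEq.respectTransparency false
set_option backward.isDefEq.respectTransparency.types false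
set_option linter.style.haveILetI false
set_option linter.unusedSectionVars false

namespace Groth.Agent.AutTan16

variable {k : Type u} [Field k] {X Y : Over (Spec (CommRingCat.of k))}
  {G : Over (Spec (CommRingCat.of k))} [GrpObj G] (a : AlgGrp.Action G X)

theorem endOf_famOf_mul {T : Over (Spec (CommRingCat.of k))} (g h : T ⟶ G) :
    AutSch.endOf (AutSch.famOf a h) ≫ AutSch.endOf (AutSch.famOf a g) = AutSch.endOf (AutSch.famOf a (g * h)) := by
  refine CartesianMonoidalCategory.hom_ext _ _ ?_ ?_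
  · rw [Category.assoc, AutSch.endOf_fst, AutSch.endOf_fst]
    have e1 : AutSch.endOf (AutSch.famOf a h) ≫ lift (snd X T ≫ g) (fst X T) =
        lift (snd X T ≫ g) (AutSch.famOf a h) := by
      rw [comp_lift, AutSch.endOf_snd_assoc, AutSch.endOf_fst]
    have e2 : lift (snd X T ≫ (g * h)) (fst X T) =
        lift (lift (snd X T ≫ g) (snd X T ≫ h)) (fst X T) ≫ (μ[G] ▷ X) := by
      refine CartesianMonoidalCategory.hom_ext _ _ ?_ ?_
      · rw [lift_fst, Category.assoc, whiskerRight_fst, lift_fst_assoc, MonObj.comp_mul, Hom.mul_def]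
      · rw [lift_snd, Category.assoc, whiskerRight_snd, lift_snd]
    have e3 : lift (snd X T ≫ g) (AutSch.famOf a h) =
        lift (lift (snd X T ≫ g) (snd X T ≫ h)) (fst X T) ≫ (α_ G G X).hom ≫ (G ◁ a.act) := by
      rw [lift_lift_associator_hom_assoc, lift_whiskerLeft]
      rfl
    show AutSch.endOf (AutSch.famOf a h) ≫ lift (snd X T ≫ g) (fst X T) ≫ a.act = _
    rw [reassoc_of% e1, e3, AutSch.famOf, e2]
    simp only [Category.assoc, a.mul_act]
  · rw [Category.assoc, AutSch.endOf_snd, AutSch.endOf_snd, AutSch.endOf_snd]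

theorem endOf_fst' (T : Over (Spec (CommRingCat.of k))) : AutSch.endOf (fst X T) = 𝟙 (X ⊗ T) := lift_fst_snd

theorem endOf_famOf_inv {T : Over (Spec (CommRingCat.of k))} (g : T ⟶ G) :
    AutSch.endOf (AutSch.famOf a g) ≫ AutSch.endOf (AutSch.famOf a g⁻¹) = 𝟙 _ := by
  rw [endOf_famOf_mul, inv_mul_cancel, famOf_one, endOf_fst']

theorem endOf_famOf_inv' {T : Over (Spec (CommRingCat.of k))} (g : T ⟶ G) :
    AutSch.endOf (AutSch.famOf a g⁻¹) ≫ AutSch.endOf (AutSch.famOf a g) = 𝟙 _ := by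
  rw [endOf_famOf_mul, mul_inv_cancel, famOf_one, endOf_fst']

theorem isAutFamily_famOf {T : Over (Spec (CommRingCat.of k))} (g : T ⟶ G) :
    AutSch.IsAutFamily (AutSch.famOf a g) :=
  ⟨AutSch.endOf (AutSch.famOf a g⁻¹), endOf_famOf_inv a g, endOf_famOf_inv' a g⟩

variable (f : X ⟶ Y)

/-- The two projections of `X ×_Y X`. -/
def kp : Over (Spec (CommRingCat.of k)) := Over.mk (pullback.fst f.left f.left ≫ X.hom)

/-- First projection. -/
def kp₁ : kp f ⟶ X := Over.homMk (pullback.fst f.left f.left) rfl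

/-- Second projection. -/
def kp₂ : kp f ⟶ X := Over.homMk (pullback.snd f.left f.left) (by
  show _ = pullback.fst f.left f.left ≫ X.hom
  rw [← Over.w f, pullback.condition_assoc])

theorem kp_condition : kp₁ f ≫ f = kp₂ f ≫ f := Over.OverMorphism.ext pullback.condition

variable {f}

/-- A family constant on the fibres of a fibration descends. -/
theorem exists_descent [IsProper f.left] [QuasiSeparatedSpace X.left]
    (hf : ∀ U : Y.left.Opens, IsIso (f.left.app U)) {T : Over (Spec (CommRingCat.of k))} (φ : X ⊗ T ⟶ X)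
    (h : (kp₁ f ▷ T) ≫ φ ≫ f = (kp₂ f ▷ T) ≫ φ ≫ f) :
    ∃ ψ : Y ⊗ T ⟶ Y, (f ▷ T) ≫ ψ = φ ≫ f := by
  obtain ⟨h0, hcl⟩ := GrpSchLib.BlanchardQS.bijective_app_whiskerLeft f hf T
  let h' : T ⊗ X ⟶ Y := (β_ T X).hom ≫ φ ≫ f
  have hfib : ∀ x₁ x₂, (T ◁ f).left x₁ = (T ◁ f).left x₂ → h'.left x₁ = h'.left x₂ := by
    intro x₁ x₂ hx
    obtain ⟨w, hw1, hw2⟩ := Scheme.Pullback.exists_preimage_pullback
      (f := (T ◁ f).left) (g := (T ◁ f).left) x₁ x₂ hx
    let P : Over (Spec (CommRingCat.of k)) := Over.mk (pullback.fst (T ◁ f).left (T ◁ f).left ≫ (T ⊗ X).hom)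
    let π₁ : P ⟶ T ⊗ X := Over.homMk (pullback.fst (T ◁ f).left (T ◁ f).left) rfl
    let π₂ : P ⟶ T ⊗ X := Over.homMk (pullback.snd (T ◁ f).left (T ◁ f).left) (by
      show _ = pullback.fst (T ◁ f).left (T ◁ f).left ≫ (T ⊗ X).hom
      rw [← Over.w (T ◁ f), pullback.condition_assoc])
    have hπ : π₁ ≫ (T ◁ f) = π₂ ≫ (T ◁ f) := Over.OverMorphism.ext pullback.condition
    have hX : (π₁ ≫ snd T X).left ≫ f.left = (π₂ ≫ snd T X).left ≫ f.left := by
      rw [← Over.comp_left, ← Over.comp_left, Category.assoc, Category.assoc, ← whiskerLeft_snd T f,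
        ← Category.assoc, ← Category.assoc, hπ]
    let q : P ⟶ kp f := Over.homMk (pullback.lift (π₁ ≫ snd T X).left (π₂ ≫ snd T X).left hX) (by
      show pullback.lift _ _ hX ≫ pullback.fst f.left f.left ≫ X.hom = _
      rw [pullback.lift_fst_assoc]
      exact Over.w (π₁ ≫ snd T X))
    have hq1 : q ≫ kp₁ f = π₁ ≫ snd T X := Over.OverMorphism.ext (pullback.lift_fst _ _ _)
    have hq2 : q ≫ kp₂ f = π₂ ≫ snd T X := Over.OverMorphism.ext (pullback.lift_snd _ _ _)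
    have hT : π₂ ≫ fst T X = π₁ ≫ fst T X := by
      rw [← whiskerLeft_fst T f, ← Category.assoc, ← Category.assoc, hπ]
    have e1 : lift q (π₁ ≫ fst T X) ≫ (kp₁ f ▷ T) = π₁ ≫ (β_ T X).hom := by
      refine CartesianMonoidalCategory.hom_ext _ _ ?_ ?_
      · simp [hq1]
      · simp
    have e2 : lift q (π₁ ≫ fst T X) ≫ (kp₂ f ▷ T) = π₂ ≫ (β_ T X).hom := by
      refine CartesianMonoidalCategory.hom_ext _ _ ?_ ?_
      · simp [hq2]
      · simp [hT]
    have key : π₁ ≫ h' = π₂ ≫ h' := by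
      show π₁ ≫ (β_ T X).hom ≫ φ ≫ f = π₂ ≫ (β_ T X).hom ≫ φ ≫ f
      rw [← reassoc_of% e1, ← reassoc_of% e2, h]
    rw [← hw1, ← hw2]
    exact congrArg (fun m : P ⟶ Y => m.left w) key
  have hsurj := H23.Rigid.surjective_of_bijective_app _ h0 hcl
  obtain ⟨r, hr⟩ := H23.Rigid.exists_factor (T ◁ f).left h0 hcl h'.left (fun s => by
    obtain ⟨x, hx⟩ := hsurj s
    exact ⟨_, fun x' hx' => hfib x' x (hx'.trans hx.symm)⟩)
  have hr' : r ≫ Y.hom = (T ⊗ Y).hom := H23.Rigid.cancel_left _ h0 hsurj _ _ (by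
    rw [← Category.assoc, hr]
    exact (Over.w h').trans (Over.w (T ◁ f)).symm)
  refine ⟨(β_ Y T).hom ≫ Over.homMk r hr', ?_⟩
  have hh : (T ◁ f) ≫ (Over.homMk r hr' : T ⊗ Y ⟶ Y) = h' := Over.OverMorphism.ext hr
  rw [BraidedCategory.braiding_naturality_left_assoc, hh]
  show (β_ X T).hom ≫ (β_ T X).hom ≫ φ ≫ f = φ ≫ f
  rw [SymmetricCategory.symmetry_assoc]

theorem epi_whiskerRight [IsProper f.left] [QuasiSeparatedSpace X.left]
    (hf : ∀ U : Y.left.Opens, IsIso (f.left.app U)) {T Z : Over (Spec (CommRingCat.of k))}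
    {r r' : Y ⊗ T ⟶ Z} (h : (f ▷ T) ≫ r = (f ▷ T) ≫ r') : r = r' := by
  have e : (T ◁ f) ≫ (β_ T Y).hom ≫ r = (T ◁ f) ≫ (β_ T Y).hom ≫ r' := by
    rw [BraidedCategory.braiding_naturality_right_assoc, h, BraidedCategory.braiding_naturality_right_assoc]
  exact (cancel_epi (β_ T Y).hom).1 (GrpSchLib.BlanchardQS.epi_whiskerLeft f hf T Z e)

theorem endOf_descent {T : Over (Spec (CommRingCat.of k))} {φ : X ⊗ T ⟶ X} {ψ : Y ⊗ T ⟶ Y}
    (h : (f ▷ T) ≫ ψ = φ ≫ f) : AutSch.endOf φ ≫ (f ▷ T) = (f ▷ T) ≫ AutSch.endOf ψ := by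
  refine CartesianMonoidalCategory.hom_ext _ _ ?_ ?_
  · rw [Category.assoc, Category.assoc, AutSch.endOf_fst, whiskerRight_fst, AutSch.endOf_fst_assoc, h]
  · rw [Category.assoc, Category.assoc, AutSch.endOf_snd, whiskerRight_snd, AutSch.endOf_snd]

theorem const_of_endOf {T : Over (Spec (CommRingCat.of k))} {φ : X ⊗ T ⟶ X} {ψ : Y ⊗ T ⟶ Y}
    (h : AutSch.endOf φ ≫ (f ▷ T) = (f ▷ T) ≫ AutSch.endOf ψ) :
    (kp₁ f ▷ T) ≫ φ ≫ f = (kp₂ f ▷ T) ≫ φ ≫ f := by
  have e : φ ≫ f = (f ▷ T) ≫ ψ := by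
    have := congrArg (· ≫ fst Y T) h
    simpa only [Category.assoc, AutSch.endOf_fst, whiskerRight_fst, AutSch.endOf_fst_assoc] using this
  rw [e, ← Category.assoc, ← Category.assoc, ← MonoidalCategory.comp_whiskerRight,
    ← MonoidalCategory.comp_whiskerRight, kp_condition]

/-- The families descending to a family of automorphisms, cut out by a closed subgroup. -/
theorem isClosedImmersion_descend [IsProper f.left] [QuasiSeparatedSpace X.left] [IsSeparated Y.hom]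
    (hf : ∀ U : Y.left.Opens, IsIso (f.left.app U)) (hG : AutSch.Represents X G a)
    {H : Over (Spec (CommRingCat.of k))} [GrpObj H] (af : AlgGrp.Action H X)
    (hH : AutSch.RepresentsSub X
      (fun T φ => ∃ ψ : Y ⊗ T ⟶ Y, AutSch.IsAutFamily ψ ∧ AutSch.endOf φ ≫ (f ▷ T) = (f ▷ T) ≫ AutSch.endOf ψ) H af)
    (ρ : H ⟶ G) (hρ : (ρ ▷ X) ≫ a.act = af.act) : IsClosedImmersion ρ.left := by
  let U : X ⊗ G ⟶ X := AutSch.famOf a (𝟙 G)
  let U' : X ⊗ G ⟶ X := AutSch.famOf a (𝟙 G)⁻¹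
  obtain ⟨Z₁, j₁, hj₁, hZ₁⟩ := GrpSchLib.exists_coincidence_field ((kp₁ f ▷ G) ≫ U ≫ f) ((kp₂ f ▷ G) ≫ U ≫ f)
  obtain ⟨Z₂, j₂, hj₂, hZ₂⟩ := GrpSchLib.exists_coincidence_field ((kp₁ f ▷ G) ≫ U' ≫ f) ((kp₂ f ▷ G) ≫ U' ≫ f)
  let Z : Over (Spec (CommRingCat.of k)) := Over.mk (pullback.fst j₁.left j₂.left ≫ Z₁.hom)
  let p₁ : Z ⟶ Z₁ := Over.homMk (pullback.fst j₁.left j₂.left) rfl
  let p₂ : Z ⟶ Z₂ := Over.homMk (pullback.snd j₁.left j₂.left) (by
    show _ = pullback.fst j₁.left j₂.left ≫ Z₁.hom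
    rw [← Over.w j₂, ← Over.w j₁, pullback.condition_assoc])
  let j : Z ⟶ G := p₁ ≫ j₁
  have hj : p₂ ≫ j₂ = j := Over.OverMorphism.ext pullback.condition.symm
  haveI : IsClosedImmersion j.left := inferInstanceAs (IsClosedImmersion (pullback.fst j₁.left j₂.left ≫ j₁.left))
  have hU : ∀ (T : Over (Spec (CommRingCat.of k))) (g : T ⟶ G), (X ◁ g) ≫ U = AutSch.famOf a g := fun T g => by
    show AutSch.pullFam g _ = _
    rw [← AutSch.famOf_comp, Category.comp_id]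
  have hU' : ∀ (T : Over (Spec (CommRingCat.of k))) (g : T ⟶ G), (X ◁ g) ≫ U' = AutSch.famOf a g⁻¹ := fun T g => by
    show AutSch.pullFam g _ = _
    rw [← AutSch.famOf_comp, GrpObj.comp_inv, Category.comp_id]
  have hW : ∀ (T : Over (Spec (CommRingCat.of k))) (g : T ⟶ G) (V : X ⊗ G ⟶ X) (p : kp f ⟶ X),
      (kp f ◁ g) ≫ (p ▷ G) ≫ V ≫ f = (p ▷ T) ≫ ((X ◁ g) ≫ V) ≫ f := fun T g V p => by
    rw [Category.assoc, whisker_exchange_assoc]
  have hρfam : ∀ (T : Over (Spec (CommRingCat.of k))) (h : T ⟶ H),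
      AutSch.famOf a (h ≫ ρ) = AutSch.famOf af h := fun T h => by
    show lift (snd X T ≫ h ≫ ρ) (fst X T) ≫ a.act = lift (snd X T ≫ h) (fst X T) ≫ af.act
    rw [← hρ, lift_whiskerRight_assoc, Category.assoc]
  -- the subgroup lies in the closed subscheme
  obtain ⟨z, hz⟩ : ∃ z : H ⟶ Z, z ≫ j = ρ := by
    have hid : AutSch.famOf af (𝟙 H) = AutSch.famOf a ρ := by rw [← hρfam, Category.id_comp]
    obtain ⟨ψ, hψ, he⟩ := hH.1 H (𝟙 H)
    rw [hid] at he
    obtain ⟨z₁, hz₁⟩ := (hZ₁ H ρ).2 (by rw [hW, hW, hU]; exact const_of_endOf he)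
    obtain ⟨z₂, hz₂⟩ := (hZ₂ H ρ).2 (by
      rw [hW, hW, hU']
      haveI : IsIso (AutSch.endOf ψ) := hψ
      refine const_of_endOf (ψ := inv (AutSch.endOf ψ) ≫ fst Y H) ?_
      have e : AutSch.endOf (inv (AutSch.endOf ψ) ≫ fst Y H) = inv (AutSch.endOf ψ) := by
        refine CartesianMonoidalCategory.hom_ext _ _ (AutSch.endOf_fst _) ?_
        rw [AutSch.endOf_snd, IsIso.eq_inv_comp, AutSch.endOf_snd]
      rw [e, IsIso.eq_comp_inv, Category.assoc, ← he, ← Category.assoc, endOf_famOf_inv', Category.id_comp])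
    refine ⟨Over.homMk (pullback.lift z₁.left z₂.left
      ((congrArg CommaMorphism.left hz₁).trans (congrArg CommaMorphism.left hz₂).symm)) ?_, ?_⟩
    · show pullback.lift z₁.left z₂.left _ ≫ pullback.fst _ _ ≫ Z₁.hom = _
      rw [pullback.lift_fst_assoc]
      exact Over.w z₁
    · refine Eq.trans (Over.OverMorphism.ext ?_) hz₁
      show pullback.lift z₁.left z₂.left _ ≫ pullback.fst _ _ ≫ j₁.left = z₁.left ≫ j₁.left
      rw [pullback.lift_fst_assoc]
  -- the closed subscheme lies in the subgroup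
  have hd := (hZ₁ Z j).1 ⟨p₁, rfl⟩
  have hd' := (hZ₂ Z j).1 ⟨p₂, hj⟩
  rw [hW, hW, hU] at hd
  rw [hW, hW, hU'] at hd'
  obtain ⟨ψ, hψ⟩ := exists_descent hf _ hd
  obtain ⟨ψ', hψ'⟩ := exists_descent hf _ hd'
  have hinv : ∀ {φ φ' : X ⊗ Z ⟶ X} {χ χ' : Y ⊗ Z ⟶ Y}, (f ▷ Z) ≫ χ = φ ≫ f → (f ▷ Z) ≫ χ' = φ' ≫ f →
      AutSch.endOf φ ≫ AutSch.endOf φ' = 𝟙 _ → AutSch.endOf χ ≫ AutSch.endOf χ' = 𝟙 _ := fun h₁ h₂ h₃ =>
    epi_whiskerRight hf (by
      rw [← Category.assoc, ← endOf_descent h₁, Category.assoc, ← endOf_descent h₂, ← Category.assoc, h₃,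
        Category.id_comp, Category.comp_id])
  obtain ⟨t, ht, -⟩ := hH.2 Z (AutSch.famOf a j) (isAutFamily_famOf a j)
    ⟨ψ, ⟨AutSch.endOf ψ', hinv hψ hψ' (endOf_famOf_inv a j), hinv hψ' hψ (endOf_famOf_inv' a j)⟩, endOf_descent hψ⟩
  have huG : ∀ (T : Over (Spec (CommRingCat.of k))) (g g' : T ⟶ G),
      AutSch.famOf a g = AutSch.famOf a g' → g = g' := fun T g g' h =>
    ((AutSch.represents_iff _ _).1 hG T _ (isAutFamily_famOf a g')).unique h rfl
  have htj : t ≫ ρ = j := huG _ _ _ (by rw [hρfam, ht])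
  have hzt : z ≫ t = 𝟙 H := by
    have h1 := hH.1 H (𝟙 H)
    exact (hH.2 H (AutSch.famOf af (𝟙 H)) (isAutFamily_famOf af _) h1).unique
      (by rw [← hρfam, Category.assoc, htj, hz, ← hρfam, Category.id_comp]) rfl
  have htz : t ≫ z = 𝟙 Z := by
    haveI : Mono j := (Over.forget _).mono_of_mono_map (inferInstanceAs (Mono j.left))
    rw [← cancel_mono j, Category.assoc, hz, htj, Category.id_comp]
  haveI : IsIso z := ⟨t, hzt, htz⟩
  rw [← hz, Over.comp_left]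
  infer_instance

end Groth.Agent.AutTan16

end
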