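import Groth.Agent.AutTan16.Chart
import Groth.Agent.AModX.Res
import Groth.Prelude.Def_Omega3
import Groth.Prelude.Def_Coh
import Mathlib.LinearAlgebra.TensorProduct.Basis
import Mathlib.RingTheory.Spectrum.Prime.RingHom

/-! Infinitesimal deformations of the identity of a scheme over a field, and derivations. -/

universe u

open CategoryTheory CategoryTheory.Limits AlgebraicGeometry MonoidalCategory CartesianMonoidalCategory
  TopologicalSpace Opposite
open scoped TensorProduct

noncomputable section

set_option backward.isDefEq.respectTransparency false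
set_option backward.isDefEq.respectTransparency.types false
set_option linter.style.haveILetI false
set_option linter.unusedSectionVars false

namespace Groth.Agent.AutTan16

open GrpSchLib

variable {k : Type u} [Field k] {X : Over (Spec (CommRingCat.of k))}

/-- A compatible family of derivations on affine opens is a derivation of the structure sheaf. -/
theorem exists_der_of_affine
    (D : ∀ U : X.left.affineOpens, Derivation k Γ(X.left, U.1) Γ(X.left, U.1))
    (hD : ∀ (U V : X.left.affineOpens) (h : U.1 ≤ V.1) (a : Γ(X.left, V.1)), rs h (D V a) = D U (rs h a)) :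
    ∃ G : OmegaSh.Der X.hom (Coh.structureModule X.left),
      ∀ (U : X.left.affineOpens) (a : Γ(X.left, U.1)), G.app U.1 a = D U a := by
  let r : ∀ {V W : X.left.Opens}, W ≤ V → Γ(X.left, V) →+* Γ(X.left, W) := fun h => AModX.resR h
  have hrr : ∀ {V W Z : X.left.Opens} (h : W ≤ V) (h' : Z ≤ W) (x : Γ(X.left, V)),
      r h' (r h x) = r (h'.trans h) x := fun h h' x => AModX.resR_resR h h' x
  -- separation and gluing along the affine opens inside an open
  have hcov : ∀ (W : X.left.Opens), ∀ p ∈ W, ∃ U : {U : X.left.affineOpens // U.1 ≤ W}, p ∈ U.1.1 := fun W p hp => by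
    obtain ⟨_, ⟨U, hU, rfl⟩, hpU, hUW⟩ := X.left.isBasis_affineOpens.exists_subset_of_mem_open hp W.2
    exact ⟨⟨⟨U, hU⟩, hUW⟩, hpU⟩
  have hsep : ∀ (W : X.left.Opens) (x y : Γ(X.left, W)),
      (∀ (U : X.left.affineOpens) (h : U.1 ≤ W), r h x = r h y) → x = y := fun W x y h =>
    AModX.eq_of_locally (M := Coh.structureModule X.left) x y fun p hp => by
      obtain ⟨U, hU⟩ := hcov W p hp
      exact ⟨U.1.1, U.2, hU, h U.1 U.2⟩
  have hglue : ∀ (W : X.left.Opens) (s : Γ(X.left, W)),
      ∃ t : Γ(X.left, W), ∀ (U : X.left.affineOpens) (h : U.1 ≤ W), r h t = D U (r h s) := fun W s => by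
    obtain ⟨t, ht, -⟩ := AModX.existsUnique_glue (M := Coh.structureModule X.left)
      (fun U : {U : X.left.affineOpens // U.1 ≤ W} => U.1.1) (fun U => U.2) (hcov W)
      (fun U => D U.1 (r U.2 s)) fun U V => hsep _ _ _ fun P hP => by
        show r hP (r inf_le_left (D U.1 (r U.2 s))) = r hP (r inf_le_right (D V.1 (r V.2 s)))
        rw [hrr, hrr]
        refine ((hD P U.1 (hP.trans inf_le_left) _).trans ?_).trans (hD P V.1 (hP.trans inf_le_right) _).symm
        show D P (r _ (r _ s)) = D P (r _ (r _ s))
        rw [hrr, hrr]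
    exact ⟨t, fun U h => ht ⟨U, h⟩⟩
  choose d hd using hglue
  refine ⟨
    { d := fun {W} => AddMonoidHom.mk' (d W.unop) fun a b => hsep _ _ _ fun U h => by
        rw [hd, map_add, map_add, map_add, hd, hd]
      d_mul := fun {W} a b => hsep W.unop _ _ fun U h => by
        change r h (d W.unop (a * b)) = r h ((show Γ(X.left, W.unop) from a) * d W.unop b + (show Γ(X.left, W.unop) from b) * d W.unop a)
        rw [hd, map_mul, Derivation.leibniz, map_add, map_mul, map_mul, hd, hd]
        rfl
      d_map := fun {W W'} f x => hsep W'.unop _ _ fun U h => by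
        change r h (d W'.unop (r f.unop.le x)) = r h (r f.unop.le (d W.unop x))
        rw [hd, hrr, hrr, hd]
      d_app := fun {V} c => hsep _ _ _ fun U h => by
        change r h (d _ (X.hom.app V.unop c)) = r h 0
        rw [hd, map_zero]
        rcases isEmpty_or_nonempty U.1 with hU | ⟨⟨p, hp⟩⟩
        · refine hsep _ _ _ fun P hP => ?_
          refine AModX.eq_of_locally (M := Coh.structureModule X.left) _ _ fun q hq => ?_
          exact (hU.false ⟨q, hP hq⟩).elim
        · have hV : V.unop = ⊤ := top_le_iff.1 fun q _ => by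
            rw [Subsingleton.elim q (X.hom p)]
            exact h hp
          obtain ⟨V⟩ := V
          change V = ⊤ at hV
          subst hV
          have hc : r h (X.hom.app ⊤ c) =
              algebraMap k Γ(X.left, U.1) ((Scheme.ΓSpecIso (CommRingCat.of k)).hom c) := by
            rw [algebraMap_eq]
            show X.left.presheaf.map (homOfLE h).op (X.hom.app ⊤ c) = _
            rw [Scheme.Hom.app_eq_appLE, ← CommRingCat.comp_apply, Scheme.Hom.appLE_map, ← CommRingCat.comp_apply,
              ← CommRingCat.comp_apply, ← Category.assoc, Iso.hom_inv_id, Category.id_comp]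
          rw [hc, Derivation.map_algebraMap] }, fun U a => ?_⟩
  have h := hd U.1 a U le_rfl
  change r le_rfl (d U.1 a) = D U (r le_rfl a) at h
  simp only [r, AModX.resR_self] at h
  exact h

variable {C C' : Type u} [CommRing C] [Algebra k C] [CommRing C'] [Algebra k C']
  {π : C →ₐ[k] C'} {φ : X ⊗ specOver k C ⟶ X}

/-- The reduction of the functions on `U × Spec C`. -/
abbrev red (U : X.left.affineOpens) (π : C →ₐ[k] C') : Γ(X.left, U.1) ⊗[k] C →ₐ[k] Γ(X.left, U.1) ⊗[k] C' :=
  Algebra.TensorProduct.map (AlgHom.id k Γ(X.left, U.1)) π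

theorem red_surjective (U : X.left.affineOpens) (hπ : Function.Surjective π) : Function.Surjective (red U π) :=
  LinearMap.lTensor_surjective _ (g := π.toLinearMap) hπ

theorem ker_red_sq (U : X.left.affineOpens) (hπ : Function.Surjective π) (hI : RingHom.ker π ^ 2 = ⊥) :
    RingHom.ker (red U π) ^ 2 = ⊥ := by
  rw [Algebra.TensorProduct.lTensor_ker (A := Γ(X.left, U.1)) π hπ, ← Ideal.map_pow, hI, Ideal.map_bot]

/-- The morphism of schemes of a surjection with square-zero kernel is surjective. -/
theorem specHom_surjective {A B : Type u} [CommRing A] [Algebra k A] [CommRing B] [Algebra k B]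
    (m : A →ₐ[k] B) (hm : Function.Surjective m) (hI : RingHom.ker m ^ 2 = ⊥) :
    Function.Surjective (specHom m).left := fun x => by
  have hx : (show PrimeSpectrum A from x) ∈ Set.range (PrimeSpectrum.comap m.toRingHom) := by
    rw [range_comap_of_surjective _ _ hm]
    intro a ha
    refine (show PrimeSpectrum A from x).isPrime.mem_of_pow_mem 2 ?_
    have h2 : a ^ 2 ∈ RingHom.ker m ^ 2 := Ideal.pow_mem_pow ha 2
    rw [hI, Ideal.mem_bot] at h2
    rw [h2]
    exact Ideal.zero_mem _
  obtain ⟨y, hy⟩ := hx
  exact ⟨y, hy⟩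

theorem exists_psi (hπ : Function.Surjective π) (hI : RingHom.ker π ^ 2 = ⊥)
    (hφ : (X ◁ specHom π) ≫ φ = fst X (specOver k C')) (U : X.left.affineOpens) :
    ∃ ψ : Γ(X.left, U.1) →ₐ[k] Γ(X.left, U.1) ⊗[k] C, specHom ψ ≫ ch U = pch U C ≫ φ ∧
      (red U π).comp ψ = Algebra.TensorProduct.includeLeft := by
  have hm : specHom (red U π) ≫ (pch U C ≫ φ) = pch U C' ≫ fst X (specOver k C') := by
    rw [← Category.assoc, ← pch_whiskerLeft, Category.assoc, hφ]
  obtain ⟨ψ, hψ⟩ := exists_ch_comp U (pch U C ≫ φ) fun x => by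
    obtain ⟨y, rfl⟩ := specHom_surjective (red U π) (red_surjective U hπ) (ker_red_sq U hπ hI) x
    have e : (specHom (red U π) ≫ (pch U C ≫ φ)).left y = (pch U C' ≫ fst X (specOver k C')).left y := by
      rw [hm]
    exact (congrArg (· ∈ U.1) e).mpr (pch_fst_mem U y)
  refine ⟨ψ, hψ, ch_comp_injective U ?_⟩
  rw [← specHom_comp, Category.assoc, hψ, hm, pch_fst]

/-- The evaluation at a linear form of the second factor. -/
def ev (A : Type u) [CommRing A] [Algebra k A] (l : C →ₗ[k] k) : A ⊗[k] C →ₗ[k] A :=
  (TensorProduct.rid k A).toLinearMap ∘ₗ l.lTensor A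

theorem ev_tmul {A : Type u} [CommRing A] [Algebra k A] (l : C →ₗ[k] k) (a : A) (c : C) :
    ev A l (a ⊗ₜ c) = l c • a := by simp [ev]

theorem ev_left_mul {A : Type u} [CommRing A] [Algebra k A] (l : C →ₗ[k] k) (a : A) (x : A ⊗[k] C) :
    ev A l (Algebra.TensorProduct.includeLeft (S := k) a * x) = a * ev A l x := by
  induction x using TensorProduct.induction_on with
  | zero => simp
  | tmul b c => simp [ev_tmul]
  | add x y hx hy => rw [mul_add, map_add, map_add, hx, hy, mul_add]

theorem eq_zero_of_ev_eq_zero {A : Type u} [CommRing A] [Algebra k A] (x : A ⊗[k] C)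
    (h : ∀ l : C →ₗ[k] k, ev A l x = 0) : x = 0 := by
  classical
  let b := Module.Free.chooseBasis k C
  refine (TensorProduct.equivFinsuppOfBasisRight b).map_eq_zero_iff.1 (Finsupp.ext fun i => ?_)
  have e : ∀ y : A ⊗[k] C, TensorProduct.equivFinsuppOfBasisRight b y i = ev A (b.coord i) y := fun y => by
    induction y using TensorProduct.induction_on with
    | zero => simp
    | tmul a c => simp [ev_tmul]
    | add y z hy hz => rw [map_add, Finsupp.add_apply, map_add, hy, hz]
  rw [e, h]
  rfl

theorem ev_map {U V : X.left.affineOpens} (h : U.1 ≤ V.1) (l : C →ₗ[k] k) (x : Γ(X.left, V.1) ⊗[k] C) :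
    ev Γ(X.left, U.1) l (Algebra.TensorProduct.map (rs h) (AlgHom.id k C) x) = rs h (ev Γ(X.left, V.1) l x) := by
  induction x using TensorProduct.induction_on with
  | zero => simp
  | tmul b c => simp [ev_tmul]
  | add x y hx hy => rw [map_add, map_add, map_add, map_add, hx, hy]

/-- A deformation of the identity is trivial when there are no derivations. -/
theorem eq_fst_of_der_eq_zero
    (hder : ∀ (D : OmegaSh.Der X.hom (Coh.structureModule X.left)) (U : X.left.Opens) (s : Γ(X.left, U)),
      D.app U s = 0)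
    (hπ : Function.Surjective π) (hI : RingHom.ker π ^ 2 = ⊥)
    (hφ : (X ◁ specHom π) ≫ φ = fst X (specOver k C')) : φ = fst X (specOver k C) := by
  choose ψ hψ hred using fun U => exists_psi hπ hI hφ U
  let δ : ∀ U : X.left.affineOpens, Γ(X.left, U.1) →ₗ[k] Γ(X.left, U.1) ⊗[k] C :=
    fun U => (ψ U).toLinearMap - (Algebra.TensorProduct.includeLeft (R := k) (S := k) :
      Γ(X.left, U.1) →ₐ[k] Γ(X.left, U.1) ⊗[k] C).toLinearMap
  have hker : ∀ U a, δ U a ∈ RingHom.ker (red U π) := fun U a => by
    rw [RingHom.mem_ker]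
    show red U π (ψ U a - _) = 0
    rw [map_sub, ← AlgHom.comp_apply (red U π) (ψ U), hred]
    simp
  have hmul : ∀ U a b, δ U (a * b) = Algebra.TensorProduct.includeLeft (S := k) a * δ U b +
      Algebra.TensorProduct.includeLeft (S := k) b * δ U a := fun U a b => by
    have h2 : δ U a * δ U b = 0 := by
      have := Ideal.mul_mem_mul (hker U a) (hker U b)
      rwa [← pow_two, ker_red_sq U hπ hI, Ideal.mem_bot] at this
    simp only [δ, LinearMap.sub_apply, AlgHom.toLinearMap_apply, map_mul] at h2 ⊢
    linear_combination h2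
  have hnat : ∀ (U V : X.left.affineOpens) (h : U.1 ≤ V.1) (a : Γ(X.left, V.1)),
      Algebra.TensorProduct.map (rs h) (AlgHom.id k C) (δ V a) = δ U (rs h a) := fun U V h a => by
    have e : (Algebra.TensorProduct.map (rs h) (AlgHom.id k C)).comp (ψ V) = (ψ U).comp (rs h) := by
      refine ch_comp_injective V ?_
      rw [← specHom_comp, ← specHom_comp, Category.assoc, Category.assoc, hψ, ch_res, hψ, ← Category.assoc,
        pch_res]
    show Algebra.TensorProduct.map (rs h) (AlgHom.id k C) (ψ V a - _) = ψ U (rs h a) - _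
    rw [map_sub, ← AlgHom.comp_apply _ (ψ V), e]
    simp
  refine prod_hom_ext fun U => ?_
  rw [← hψ, pch_fst]
  congr 2
  refine AlgHom.ext fun a => sub_eq_zero.1 (eq_zero_of_ev_eq_zero _ fun l => ?_)
  let Dl : ∀ U : X.left.affineOpens, Derivation k Γ(X.left, U.1) Γ(X.left, U.1) := fun U =>
    Derivation.mk' (ev _ l ∘ₗ δ U) fun a b => by
      show ev _ l (δ U (a * b)) = a * ev _ l (δ U b) + b * ev _ l (δ U a)
      rw [hmul, map_add, ev_left_mul, ev_left_mul]
  obtain ⟨G, hG⟩ := exists_der_of_affine Dl fun U V h a => by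
    show rs h (ev _ l (δ V a)) = ev _ l (δ U (rs h a))
    rw [← hnat U V h, ev_map]
  exact (hG U a).symm.trans (hder G U.1 a)

end Groth.Agent.AutTan16

end
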