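import Groth.Agent.AutTan16.Descend
import Groth.Agent.Lib.NormalPush
import Mathlib.AlgebraicGeometry.Morphisms.SchemeTheoreticallyDominant

/-! Lifting automorphism groups along birational morphisms. -/

universe u

open CategoryTheory CategoryTheory.Limits AlgebraicGeometry MonoidalCategory CartesianMonoidalCategory
  TopologicalSpace MonObj GrpObj

noncomputable section

set_option backward.isDefEq.respectTransparency false
set_option backward.isDefEq.respectTransparency.types false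
set_option linter.style.haveILetI false
set_option linter.unusedSectionVars false

namespace Groth.Agent.AutTan16

/-- Two morphisms to a separated scheme agreeing after a schematically dominant morphism are equal. -/
theorem cancel_schDominant {A B Y S : Scheme.{u}} (q : A ⟶ B) [QuasiCompact q] [IsSchemeTheoreticallyDominant q]
    (s : Y ⟶ S) [IsSeparated s] (r r' : B ⟶ Y) (hs : r ≫ s = r' ≫ s) (h : q ≫ r = q ≫ r') : r = r' := by
  let Δ := pullback.diagonal s
  let p : B ⟶ pullback s s := pullback.lift r r' hs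
  let e := pullback.fst p Δ
  let l : A ⟶ pullback p Δ := pullback.lift q (q ≫ r) (by
    apply pullback.hom_ext <;> simp [p, Δ, h])
  have hle : l ≫ e = q := pullback.lift_fst _ _ _
  have hker : e.ker = ⊥ := by
    refine le_bot_iff.1 ?_
    have h1 := Scheme.Hom.le_ker_comp l e
    rwa [hle, q.ker_eq_bot] at h1
  haveI : IsIso e := IsClosedImmersion.isIso_iff_ker_eq_bot.2 hker
  have hc := pullback.condition (f := p) (g := Δ)
  have h1 : e ≫ r = pullback.snd p Δ := by simpa [p, Δ] using congrArg (· ≫ pullback.fst s s) hc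
  have h2 : e ≫ r' = pullback.snd p Δ := by simpa [p, Δ] using congrArg (· ≫ pullback.snd s s) hc
  exact (cancel_epi e).1 (h1.trans h2.symm)

theorem isIso_app_of_birational {X Y : Scheme.{u}} [IsIntegral X] [IsIntegral Y] (hY : Pi1.IsNormalScheme Y)
    (f : X ⟶ Y) [IsProper f] (U : Y.Opens) (hU : (U : Set ↥Y).Nonempty) (hf : IsIso (f ∣_ U)) (W : Y.Opens) :
    IsIso (f.app W) := by
  haveI := hf
  haveI : Nonempty U := hU.to_subtype
  have hηU : genericPoint Y ∈ U :=
    ((genericPoint_spec Y).mem_open_set_iff U.2).mpr (by simpa using hU)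
  obtain ⟨x, hx⟩ := (f ∣_ U).surjective ⟨genericPoint Y, hηU⟩
  have hfx : f.base x.1 = genericPoint Y :=
    (congr($(morphismRestrict_ι f U) x)).symm.trans (congrArg Subtype.val hx)
  have hgen : f.base (genericPoint X) = genericPoint Y := by
    refine Inseparable.eq ((?_ : f.base (genericPoint X) ⤳ genericPoint Y).antisymm (genericPoint_specializes _))
    rw [← hfx]
    exact (genericPoint_specializes x.1).map f.continuous
  have hηX : genericPoint X ∈ f ⁻¹ᵁ U := show f.base (genericPoint X) ∈ U from hgen ▸ hηU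
  haveI : IsIso (f.stalkMap (genericPoint X)) := by
    have h := (MorphismProperty.arrow_mk_iso_iff (MorphismProperty.isomorphisms CommRingCat)
      (morphismRestrictStalkMap f U ⟨genericPoint X, hηX⟩)).1 (inferInstanceAs (IsIso ((f ∣_ U).stalkMap _)))
    exact h
  have hdom : f.base (genericPoint X) ⤳ genericPoint Y := (Inseparable.of_eq hgen).specializes
  refine Lib.NormalPush.isIso_app hY f hdom (fun x _ => ?_) W
  haveI : IsIso (Y.presheaf.stalkSpecializes hdom) := by
    have hrev : genericPoint Y ⤳ f.base (genericPoint X) := (Inseparable.of_eq hgen.symm).specializes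
    exact ⟨Y.presheaf.stalkSpecializes hrev, by simp, by simp⟩
  obtain ⟨a, ha⟩ := (ConcreteCategory.bijective_of_isIso
    (Y.presheaf.stalkSpecializes hdom ≫ f.stalkMap (genericPoint X))).2 x
  exact ⟨a, ha⟩

variable {k : Type u} [Field k] {X Y : Over (Spec (CommRingCat.of k))}
  {G : Over (Spec (CommRingCat.of k))} [GrpObj G] (a : AlgGrp.Action G X) {f : X ⟶ Y}

/-- An automorphism family over the identity of a birational base is trivial. -/
theorem eq_fst_of_over_birational [IsIntegral X.left] [IsSeparated X.hom] [IsLocallyNoetherian X.left]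
    (U : Y.left.Opens) (hU : (U : Set ↥Y.left).Nonempty) (hf : IsIso (f.left ∣_ U))
    {T : Over (Spec (CommRingCat.of k))} (θ : X ⊗ T ⟶ X) (h : θ ≫ f = fst X T ≫ f) : θ = fst X T := by
  haveI := hf
  let V : Over (Spec (CommRingCat.of k)) := Over.mk ((f.left ⁻¹ᵁ U).ι ≫ X.hom)
  let j : V ⟶ X := Over.homMk (f.left ⁻¹ᵁ U).ι rfl
  haveI : Nonempty (f.left ⁻¹ᵁ U) := by
    obtain ⟨y, hy⟩ := hU
    obtain ⟨x, -⟩ := (f.left ∣_ U).surjective ⟨y, hy⟩
    exact ⟨x⟩
  haveI : IsDominant (f.left ⁻¹ᵁ U).ι := by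
    refine ⟨?_⟩
    show Dense (Set.range (f.left ⁻¹ᵁ U).ι)
    rw [Scheme.Opens.range_ι]
    obtain ⟨x⟩ := (inferInstance : Nonempty (f.left ⁻¹ᵁ U))
    exact (f.left ⁻¹ᵁ U).2.dense ⟨x.1, x.2⟩
  haveI : IsSchemeTheoreticallyDominant j.left := IsSchemeTheoreticallyDominant.of_isDominant (f.left ⁻¹ᵁ U).ι
  haveI : QuasiCompact j.left := inferInstanceAs (QuasiCompact (f.left ⁻¹ᵁ U).ι)
  haveI : Flat (fst X T).left := inferInstanceAs (Flat (pullback.fst X.hom T.hom))
  have H := GrpSchLib.isPullback_whiskerRight j T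
  haveI : QuasiCompact (j ▷ T).left := MorphismProperty.of_isPullback H.flip inferInstance
  haveI : IsSchemeTheoreticallyDominant (j ▷ T).left :=
    IsSchemeTheoreticallyDominant.of_isPullback H.flip
  refine Over.OverMorphism.ext (cancel_schDominant (j ▷ T).left X.hom _ _
    ((Over.w θ).trans (Over.w (fst X T)).symm) ?_)
  -- the two maps land in the open over which `f` is an isomorphism
  have hfst : (j ▷ T).left ≫ (fst X T).left = (fst V T).left ≫ (f.left ⁻¹ᵁ U).ι :=
    congrArg CommaMorphism.left (whiskerRight_fst j T)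
  have hθf : ((j ▷ T).left ≫ θ.left) ≫ f.left = ((j ▷ T).left ≫ (fst X T).left) ≫ f.left := by
    rw [Category.assoc, Category.assoc]
    exact congrArg ((j ▷ T).left ≫ ·) (congrArg Over.Hom.left h)
  have hr : Set.range ((j ▷ T).left ≫ θ.left) ⊆ Set.range (f.left ⁻¹ᵁ U).ι := by
    rintro _ ⟨z, rfl⟩
    rw [Scheme.Opens.range_ι]
    show f.left (((j ▷ T).left ≫ θ.left) z) ∈ U
    rw [← Scheme.Hom.comp_apply, hθf, hfst, Category.assoc, Scheme.Hom.comp_apply, Scheme.Hom.comp_apply]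
    exact ((fst V T).left z).2
  have hl : IsOpenImmersion.lift (f.left ⁻¹ᵁ U).ι _ hr = (fst V T).left := by
    rw [← cancel_mono (f.left ∣_ U), ← cancel_mono U.ι, Category.assoc, Category.assoc, morphismRestrict_ι,
      IsOpenImmersion.lift_fac_assoc, hθf, hfst, Category.assoc]
  rw [hfst, ← hl, IsOpenImmersion.lift_fac]

/-- The closed locus of the automorphisms descending along `f`, with the descended family. -/
theorem exists_descentLocus [IsProper f.left] [QuasiSeparatedSpace X.left] [IsSeparated Y.hom]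
    (hf : ∀ U : Y.left.Opens, IsIso (f.left.app U)) (a : AlgGrp.Action G X) :
    ∃ (Z : Over (Spec (CommRingCat.of k))) (j : Z ⟶ G) (ψ : Y ⊗ Z ⟶ Y), IsClosedImmersion j.left ∧
      AutSch.IsAutFamily ψ ∧ (f ▷ Z) ≫ ψ = AutSch.famOf a j ≫ f ∧
      ∀ (T : Over (Spec (CommRingCat.of k))) (g : T ⟶ G) (χ : Y ⊗ T ⟶ Y), AutSch.IsAutFamily χ →
        (f ▷ T) ≫ χ = AutSch.famOf a g ≫ f → ∃ z : T ⟶ Z, z ≫ j = g := by
  let U : X ⊗ G ⟶ X := AutSch.famOf a (𝟙 G)
  let U' : X ⊗ G ⟶ X := AutSch.famOf a (𝟙 G)⁻¹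
  obtain ⟨Z₁, j₁, hj₁, hZ₁⟩ := GrpSchLib.exists_coincidence_field ((kp₁ f ▷ G) ≫ U ≫ f) ((kp₂ f ▷ G) ≫ U ≫ f)
  obtain ⟨Z₂, j₂, hj₂, hZ₂⟩ := GrpSchLib.exists_coincidence_field ((kp₁ f ▷ G) ≫ U' ≫ f) ((kp₂ f ▷ G) ≫ U' ≫ f)
  let Z : Over (Spec (CommRingCat.of k)) := Over.mk (pullback.fst j₁.left j₂.left ≫ Z₁.hom)
  let p₁ : Z ⟶ Z₁ := Over.homMk (pullback.fst j₁.left j₂.left) rfl
  let p₂ : Z ⟶ Z₂ := Over.homMk (pullback.snd j₁.left j₂.left) (by
    show _ = pullback.fst j₁.left j₂.left ≫ Z₁.hom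
    rw [← Over.w j₂, ← Over.w j₁, pullback.condition_assoc])
  let j : Z ⟶ G := p₁ ≫ j₁
  have hj : p₂ ≫ j₂ = j := Over.OverMorphism.ext pullback.condition.symm
  haveI : IsClosedImmersion j.left := inferInstanceAs (IsClosedImmersion (pullback.fst j₁.left j₂.left ≫ j₁.left))
  have hU : ∀ (T : Over (Spec (CommRingCat.of k))) (g : T ⟶ G), (X ◁ g) ≫ U = AutSch.famOf a g := fun T g => by
    show AutSch.pullFam g _ = _
    rw [← AutSch.famOf_comp, Category.comp_id]
  have hU' : ∀ (T : Over (Spec (CommRingCat.of k))) (g : T ⟶ G), (X ◁ g) ≫ U' = AutSch.famOf a g⁻¹ := fun T g => by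
    show AutSch.pullFam g _ = _
    rw [← AutSch.famOf_comp, GrpObj.comp_inv, Category.comp_id]
  have hW : ∀ (T : Over (Spec (CommRingCat.of k))) (g : T ⟶ G) (V : X ⊗ G ⟶ X) (p : kp f ⟶ X),
      (kp f ◁ g) ≫ (p ▷ G) ≫ V ≫ f = (p ▷ T) ≫ ((X ◁ g) ≫ V) ≫ f := fun T g V p => by
    rw [Category.assoc, whisker_exchange_assoc]
  have hd := (hZ₁ Z j).1 ⟨p₁, rfl⟩
  have hd' := (hZ₂ Z j).1 ⟨p₂, hj⟩
  rw [hW, hW, hU] at hd
  rw [hW, hW, hU'] at hd'
  obtain ⟨ψ, hψ⟩ := exists_descent hf _ hd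
  obtain ⟨ψ', hψ'⟩ := exists_descent hf _ hd'
  have hinv : ∀ {φ φ' : X ⊗ Z ⟶ X} {χ χ' : Y ⊗ Z ⟶ Y}, (f ▷ Z) ≫ χ = φ ≫ f → (f ▷ Z) ≫ χ' = φ' ≫ f →
      AutSch.endOf φ ≫ AutSch.endOf φ' = 𝟙 _ → AutSch.endOf χ ≫ AutSch.endOf χ' = 𝟙 _ := fun h₁ h₂ h₃ =>
    epi_whiskerRight hf (by
      rw [← Category.assoc, ← endOf_descent h₁, Category.assoc, ← endOf_descent h₂, ← Category.assoc, h₃,
        Category.id_comp, Category.comp_id])
  refine ⟨Z, j, ψ, inferInstance, ⟨AutSch.endOf ψ', hinv hψ hψ' (endOf_famOf_inv a j),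
    hinv hψ' hψ (endOf_famOf_inv' a j)⟩, hψ, fun T g χ hχ hgχ => ?_⟩
  have he := endOf_descent hgχ
  obtain ⟨z₁, hz₁⟩ := (hZ₁ T g).2 (by rw [hW, hW, hU]; exact const_of_endOf he)
  obtain ⟨z₂, hz₂⟩ := (hZ₂ T g).2 (by
    rw [hW, hW, hU']
    haveI : IsIso (AutSch.endOf χ) := hχ
    refine const_of_endOf (ψ := inv (AutSch.endOf χ) ≫ fst Y T) ?_
    have e : AutSch.endOf (inv (AutSch.endOf χ) ≫ fst Y T) = inv (AutSch.endOf χ) := by
      refine CartesianMonoidalCategory.hom_ext _ _ (AutSch.endOf_fst _) ?_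
      rw [AutSch.endOf_snd, IsIso.eq_inv_comp, AutSch.endOf_snd]
    rw [e, IsIso.eq_comp_inv, Category.assoc, ← he, ← Category.assoc, endOf_famOf_inv', Category.id_comp])
  refine ⟨Over.homMk (pullback.lift z₁.left z₂.left
    ((congrArg CommaMorphism.left hz₁).trans (congrArg CommaMorphism.left hz₂).symm)) ?_, ?_⟩
  · show pullback.lift z₁.left z₂.left _ ≫ pullback.fst _ _ ≫ Z₁.hom = _
    rw [pullback.lift_fst_assoc]
    exact Over.w z₁
  · refine Eq.trans (Over.OverMorphism.ext ?_) hz₁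
    show pullback.lift z₁.left z₂.left _ ≫ pullback.fst _ _ ≫ j₁.left = z₁.left ≫ j₁.left
    rw [pullback.lift_fst_assoc]

/-- A closed subgroup of automorphisms of the base, lifted along a birational morphism, is closed. -/
theorem isClosedImmersion_lift [IsIntegral X.left] [IsSeparated X.hom] [IsLocallyNoetherian X.left]
    [IsProper f.left] [QuasiSeparatedSpace X.left] [IsSeparated Y.hom]
    (hf : ∀ U : Y.left.Opens, IsIso (f.left.app U))
    (U : Y.left.Opens) (hU : (U : Set ↥Y.left).Nonempty) (hfU : IsIso (f.left ∣_ U))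
    (hG : AutSch.Represents X G a) {GY : Over (Spec (CommRingCat.of k))} [GrpObj GY]
    {aY : AlgGrp.Action GY Y} (hGY : AutSch.Represents Y GY aY)
    {H : Over (Spec (CommRingCat.of k))} [GrpObj H] (e : H ⟶ GY) (he : IsClosedImmersion e.left)
    (b : AlgGrp.Action H X) (hb : (H ◁ f) ≫ (e ▷ Y) ≫ aY.act = b.act ≫ f)
    (ρ : H ⟶ G) (hρ : (ρ ▷ X) ≫ a.act = b.act) : IsClosedImmersion ρ.left := by
  haveI := he
  obtain ⟨Z, j, ψ, hj, hψ, hψf, hZ⟩ := exists_descentLocus hf a
  have huG : ∀ (T : Over (Spec (CommRingCat.of k))) (g g' : T ⟶ G),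
      AutSch.famOf a g = AutSch.famOf a g' → g = g' := fun T g g' h =>
    ((AutSch.represents_iff _ _).1 hG T _ (isAutFamily_famOf a g')).unique h rfl
  have huY : ∀ (T : Over (Spec (CommRingCat.of k))) (g g' : T ⟶ GY),
      AutSch.famOf aY g = AutSch.famOf aY g' → g = g' := fun T g g' h =>
    ((AutSch.represents_iff _ _).1 hGY T _ (isAutFamily_famOf aY g')).unique h rfl
  -- the lifted families descend
  have hdesc : ∀ (T : Over (Spec (CommRingCat.of k))) (t : T ⟶ H),
      (f ▷ T) ≫ AutSch.famOf aY (t ≫ e) = AutSch.famOf a (t ≫ ρ) ≫ f := fun T t => by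
    have e1 : (f ▷ T) ≫ lift (snd Y T ≫ t ≫ e) (fst Y T) =
        lift (snd X T ≫ t) (fst X T) ≫ (H ◁ f) ≫ (e ▷ Y) := by
      refine CartesianMonoidalCategory.hom_ext _ _ ?_ ?_
      · simp
      · simp
    have e2 : lift (snd X T ≫ t ≫ ρ) (fst X T) = lift (snd X T ≫ t) (fst X T) ≫ (ρ ▷ X) := by
      refine CartesianMonoidalCategory.hom_ext _ _ ?_ ?_ <;> simp
    show (f ▷ T) ≫ lift (snd Y T ≫ t ≫ e) (fst Y T) ≫ aY.act =
      (lift (snd X T ≫ t ≫ ρ) (fst X T) ≫ a.act) ≫ f
    rw [reassoc_of% e1, hb, e2]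
    simp only [Category.assoc]
    rw [reassoc_of% hρ]
  obtain ⟨q, hq, -⟩ := (AutSch.represents_iff _ _).1 hGY Z ψ hψ
  -- the preimage of the subgroup
  let P : Over (Spec (CommRingCat.of k)) := Over.mk (pullback.fst q.left e.left ≫ Z.hom)
  let π : P ⟶ Z := Over.homMk (pullback.fst q.left e.left) rfl
  let t : P ⟶ H := Over.homMk (pullback.snd q.left e.left) (by
    show _ = pullback.fst q.left e.left ≫ Z.hom
    rw [← Over.w e, ← Over.w q, pullback.condition_assoc])
  have hπt : π ≫ q = t ≫ e := Over.OverMorphism.ext pullback.condition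
  haveI : IsClosedImmersion π.left := inferInstanceAs (IsClosedImmersion (pullback.fst q.left e.left))
  obtain ⟨z, hz⟩ := hZ H ρ (AutSch.famOf aY e) (isAutFamily_famOf aY e) (by
    have := hdesc H (𝟙 H)
    simpa only [Category.id_comp] using this)
  -- the descended family of `ρ`
  have hzq : z ≫ q = e := by
    refine huY _ _ _ (epi_whiskerRight hf ?_)
    have h1 := hdesc H (𝟙 H)
    rw [Category.id_comp, Category.id_comp] at h1
    rw [AutSch.famOf_comp, hq, h1, ← hz, AutSch.famOf_comp, AutSch.pullFam, AutSch.pullFam, Category.assoc,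
      ← hψf, whisker_exchange_assoc]
  let w : H ⟶ P := Over.homMk (pullback.lift z.left (𝟙 H.left) (by
      rw [Category.id_comp, ← Over.comp_left, hzq])) (by
    show pullback.lift _ _ _ ≫ pullback.fst _ _ ≫ Z.hom = _
    rw [pullback.lift_fst_assoc]
    exact Over.w z)
  have hwπ : w ≫ π = z := Over.OverMorphism.ext (pullback.lift_fst _ _ _)
  have hwt : w ≫ t = 𝟙 H := Over.OverMorphism.ext (pullback.lift_snd _ _ _)
  have htρ : t ≫ ρ = π ≫ j := by
    refine huG _ _ _ ?_
    let Φ := AutSch.endOf (AutSch.famOf a (t ≫ ρ))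
    let Φ' := AutSch.endOf (AutSch.famOf a (π ≫ j))
    have h1 : Φ ≫ (f ▷ P) = Φ' ≫ (f ▷ P) := by
      have e1 := endOf_descent (hdesc P t)
      have e2 : (f ▷ P) ≫ AutSch.famOf aY (t ≫ e) = AutSch.famOf a (π ≫ j) ≫ f := by
        rw [← hπt, AutSch.famOf_comp, AutSch.famOf_comp, hq, AutSch.pullFam, AutSch.pullFam, Category.assoc,
          ← hψf, whisker_exchange_assoc]
      exact e1.trans (endOf_descent e2).symm
    haveI : IsIso Φ := isAutFamily_famOf a _
    have h2 : (inv Φ ≫ Φ') ≫ fst X P ≫ f = fst X P ≫ f := by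
      rw [← whiskerRight_fst f P, Category.assoc, ← reassoc_of% h1, IsIso.inv_hom_id_assoc]
    have h3 := eq_fst_of_over_birational U hU hfU ((inv Φ ≫ Φ') ≫ fst X P) ((Category.assoc _ _ _).trans h2)
    have h4 : Φ' ≫ fst X P = Φ ≫ fst X P := by
      have := congrArg (Φ ≫ ·) h3
      simpa only [Category.assoc, IsIso.hom_inv_id_assoc] using this
    simpa [Φ, Φ'] using h4.symm
  have htw : t ≫ w = 𝟙 P := by
    haveI : Mono (π ≫ j) := (Over.forget _).mono_of_mono_map (inferInstanceAs (Mono (π.left ≫ j.left)))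
    rw [← cancel_mono (π ≫ j), Category.assoc, reassoc_of% hwπ, hz, htρ, Category.id_comp]
  haveI : IsIso w := ⟨t, hwt, htw⟩
  rw [← hz, ← hwπ, Over.comp_left, Over.comp_left]
  infer_instance

end Groth.Agent.AutTan16

end
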