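import Groth.Agent.AutTan16.Deviation
import Groth.Prelude.Def_AutSch
import Mathlib.AlgebraicGeometry.Morphisms.FormallyUnramified
import Mathlib.AlgebraicGeometry.Morphisms.Separated

/-! The automorphism group scheme is formally unramified iff there are no vector fields. -/

universe u

open CategoryTheory CategoryTheory.Limits AlgebraicGeometry MonoidalCategory CartesianMonoidalCategory
  TopologicalSpace Opposite MonObj GrpObj
open scoped TensorProduct

noncomputable section

set_option backward.isDefEq.respectTransparency false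
set_option backward.isDefEq.respectTransparency.types false
set_option linter.style.haveILetI false
set_option linter.unusedSectionVars false

namespace Groth.Agent.AutTan16

open GrpSchLib

variable {k : Type u} [Field k] {X : Over (Spec (CommRingCat.of k))}
  {G : Over (Spec (CommRingCat.of k))} [GrpObj G] (a : AlgGrp.Action G X)

theorem famOf_one (T : Over (Spec (CommRingCat.of k))) : AutSch.famOf a (1 : T ⟶ G) = fst X T := by
  have h : lift (snd X T ≫ (1 : T ⟶ G)) (fst X T) = lift (toUnit (X ⊗ T)) (fst X T) ≫ (η[G] ▷ X) := by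
    refine CartesianMonoidalCategory.hom_ext _ _ ?_ ?_
    · rw [lift_fst, Category.assoc, whiskerRight_fst, ← Category.assoc, lift_fst, MonObj.one_eq_one, MonObj.comp_one,
        MonObj.comp_one]
    · rw [lift_snd, Category.assoc, whiskerRight_snd, lift_snd]
  rw [AutSch.famOf, h, Category.assoc, a.one_act, CartesianMonoidalCategory.leftUnitor_hom, lift_snd]

theorem eq_one_of_famOf (hG : AutSch.Represents X G a) {T : Over (Spec (CommRingCat.of k))} {g : T ⟶ G}
    (h : AutSch.famOf a g = fst X T) : g = 1 := by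
  have hfst : AutSch.IsAutFamily (fst X T) := by
    show IsIso (lift (fst X T) (snd X T))
    rw [lift_fst_snd]
    infer_instance
  exact ((AutSch.represents_iff _ _).1 hG T _ hfst).unique h (famOf_one a T)

/-- Without vector fields the automorphism group scheme is formally unramified. -/
theorem formallyUnramified_of_der_eq_zero (hG : AutSch.Represents X G a)
    (hder : ∀ (D : OmegaSh.Der X.hom (Coh.structureModule X.left)) (U : X.left.Opens) (s : Γ(X.left, U)),
      D.app U s = 0) :
    FormallyUnramified G.hom := by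
  refine FormallyUnramified.of_hom_ext _ fun R S f hf hI g₁ g₂ hg hgh => ?_
  obtain ⟨c, hc⟩ := Spec.map_surjective (g₁ ≫ G.hom)
  letI : Algebra k R := c.hom.toAlgebra
  letI : Algebra k S := (f.hom.comp c.hom).toAlgebra
  let π : R →ₐ[k] S := { f.hom with commutes' := fun _ => rfl }
  let p₁ : specOver k R ⟶ G := Over.homMk g₁ hc.symm
  let p₂ : specOver k R ⟶ G := Over.homMk g₂ (hgh.symm.trans hc.symm)
  have hp : specHom π ≫ p₁ = specHom π ≫ p₂ := Over.OverMorphism.ext hg
  have hd : specHom π ≫ (p₁ * p₂⁻¹) = 1 := by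
    rw [MonObj.comp_mul, GrpObj.comp_inv, hp, mul_inv_cancel]
  have hfam : (X ◁ specHom π) ≫ AutSch.famOf a (p₁ * p₂⁻¹) = fst X (specOver k S) := by
    have := AutSch.famOf_comp a (specHom π) (p₁ * p₂⁻¹)
    rw [hd, famOf_one] at this
    exact this.symm
  have h1 := eq_one_of_famOf a hG (eq_fst_of_der_eq_zero hder (π := π) hf hI hfam)
  have h2 : p₁ = p₂ := mul_inv_eq_one.1 h1
  exact congrArg CommaMorphism.left h2

section Der

variable (D : OmegaSh.Der X.hom (Coh.structureModule X.left))

theorem der_mul (U : X.left.Opens) (b c : Γ(X.left, U)) :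
    OmegaSh.fnSect X.left U (D.app U (b * c)) =
      b * OmegaSh.fnSect X.left U (D.app U c) + c * OmegaSh.fnSect X.left U (D.app U b) := by
  rw [OmegaSh.Der.app_apply]
  refine (congrArg _ (D.d_mul (X := op U) b c)).trans ?_
  rw [map_add]
  rfl

theorem der_res {U V : X.left.Opens} (h : U ≤ V) (b : Γ(X.left, V)) :
    OmegaSh.fnSect X.left U (D.app U (X.left.presheaf.map (homOfLE h).op b)) =
      X.left.presheaf.map (homOfLE h).op (OmegaSh.fnSect X.left V (D.app V b)) :=
  congrArg (OmegaSh.fnSect X.left U) (D.d_map (X := op V) (Y := op U) (homOfLE h).op b)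

theorem der_algebraMap (U : X.left.affineOpens) (c : k) :
    OmegaSh.fnSect X.left U.1 (D.app U.1 (algebraMap k Γ(X.left, U.1) c)) = 0 := by
  rw [algebraMap_eq]
  have e : X.hom.appLE ⊤ U.1 le_top ((Scheme.ΓSpecIso (CommRingCat.of k)).inv c) =
      X.left.presheaf.map (homOfLE (le_top : U.1 ≤ X.hom ⁻¹ᵁ ⊤)).op
        (X.hom.app ⊤ ((Scheme.ΓSpecIso (CommRingCat.of k)).inv c)) := rfl
  rw [e, der_res]
  have h0 : D.app (X.hom ⁻¹ᵁ ⊤) (X.hom.app ⊤ ((Scheme.ΓSpecIso (CommRingCat.of k)).inv c)) = 0 :=
    D.d_app (X := op (⊤ : (Spec (CommRingCat.of k)).Opens)) _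
  refine (congrArg (fun z => X.left.presheaf.map (homOfLE (le_top : U.1 ≤ X.hom ⁻¹ᵁ ⊤)).op
    (OmegaSh.fnSect X.left (X.hom ⁻¹ᵁ ⊤) z)) h0).trans ?_
  show X.left.presheaf.map _ (OmegaSh.fnSect X.left (X.hom ⁻¹ᵁ ⊤) 0) = 0
  rw [map_zero, map_zero]

/-- The derivation on an affine open. -/
def derOn (U : X.left.affineOpens) : Derivation k Γ(X.left, U.1) Γ(X.left, U.1) :=
  Derivation.mk'
    { toFun := fun b => OmegaSh.fnSect X.left U.1 (D.app U.1 b)
      map_add' := fun b c => by rw [map_add, map_add]
      map_smul' := fun c b => by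
        rw [Algebra.smul_def, der_mul, der_algebraMap, mul_zero, add_zero, RingHom.id_apply, Algebra.smul_def] }
    fun b c => der_mul D U.1 b c

theorem derOn_res {U V : X.left.affineOpens} (h : U.1 ≤ V.1) (b : Γ(X.left, V.1)) :
    derOn D U (rs h b) = rs h (derOn D V b) := der_res D h b

/-- The functions of `U` inside those of `U × Spec k[ε]`. -/
abbrev inB (U : X.left.affineOpens) : Γ(X.left, U.1) →ₐ[k] Γ(X.left, U.1) ⊗[k] DualNumber k :=
  Algebra.TensorProduct.includeLeft

/-- The class of `ε`. -/
def epsB (U : X.left.affineOpens) : Γ(X.left, U.1) ⊗[k] DualNumber k :=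
  (Algebra.TensorProduct.includeRight : DualNumber k →ₐ[k] Γ(X.left, U.1) ⊗[k] DualNumber k) DualNumber.eps

theorem epsB_mul_self (U : X.left.affineOpens) : epsB (k := k) U * epsB U = 0 := by
  rw [epsB, ← map_mul, DualNumber.eps_mul_eps, map_zero]

/-- The deformation `b ↦ b + D(b) ε` of the identity on an affine open. -/
def psiD {U : X.left.affineOpens} (d : Derivation k Γ(X.left, U.1) Γ(X.left, U.1)) :
    Γ(X.left, U.1) →ₐ[k] Γ(X.left, U.1) ⊗[k] DualNumber k :=
  AlgHom.ofLinearMap
    ((inB U).toLinearMap + LinearMap.mulRight k (epsB U) ∘ₗ (inB U).toLinearMap ∘ₗ d.toLinearMap)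
    (by
      show inB U 1 + inB U (d 1) * epsB U = 1
      rw [Derivation.map_one_eq_zero, show inB U (0 : Γ(X.left, U.1)) = 0 from (inB U).toRingHom.map_zero,
        show inB U (1 : Γ(X.left, U.1)) = 1 from (inB U).toRingHom.map_one]
      linear_combination)
    (fun b c => by
      show inB U (b * c) + inB U (d (b * c)) * epsB U =
        (inB U b + inB U (d b) * epsB U) * (inB U c + inB U (d c) * epsB U)
      rw [Derivation.leibniz, smul_eq_mul, smul_eq_mul, map_add, map_mul, map_mul, map_mul]
      linear_combination (- (inB U (d b) * inB U (d c))) * epsB_mul_self U)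

theorem psiD_apply {U : X.left.affineOpens} (d : Derivation k Γ(X.left, U.1) Γ(X.left, U.1)) (b : Γ(X.left, U.1)) :
    psiD d b = inB U b + inB U (d b) * epsB U := rfl

/-- The endomorphism of the functions on `U × Spec k[ε]`. -/
def endD {U : X.left.affineOpens} (d : Derivation k Γ(X.left, U.1) Γ(X.left, U.1)) :
    Γ(X.left, U.1) ⊗[k] DualNumber k →ₐ[k] Γ(X.left, U.1) ⊗[k] DualNumber k :=
  Algebra.TensorProduct.lift (psiD d) Algebra.TensorProduct.includeRight fun x _ => Commute.all (psiD d x) _

theorem endD_comp_inB {U : X.left.affineOpens} (d : Derivation k Γ(X.left, U.1) Γ(X.left, U.1)) :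
    (endD d).comp (inB U) = psiD d := by
  refine AlgHom.ext fun b => ?_
  simp [endD, inB]

theorem endD_comp_right {U : X.left.affineOpens} (d : Derivation k Γ(X.left, U.1) Γ(X.left, U.1)) :
    (endD d).comp Algebra.TensorProduct.includeRight = Algebra.TensorProduct.includeRight := by
  refine AlgHom.ext fun c => ?_
  simp [endD]

theorem endD_comp {U : X.left.affineOpens} (d d' : Derivation k Γ(X.left, U.1) Γ(X.left, U.1))
    (h : ∀ b, d b + d' b = 0) : (endD d).comp (endD d') = AlgHom.id k _ := by
  refine Algebra.TensorProduct.ext ?_ ?_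
  · have h1 : ∀ b, endD d (inB U b) = psiD d b := fun b => AlgHom.congr_fun (endD_comp_inB d) b
    have h2 : endD d (epsB U) = epsB U := AlgHom.congr_fun (endD_comp_right d) DualNumber.eps
    refine AlgHom.ext fun b => ?_
    show endD d (endD d' (inB U b)) = inB U b
    rw [show endD d' (inB U b) = psiD d' b from AlgHom.congr_fun (endD_comp_inB d') b, psiD_apply, map_add, map_mul,
      h1, h1, h2, psiD_apply, psiD_apply]
    have h3 : inB U (d b) + inB U (d' b) = 0 := by rw [← map_add, h b, map_zero]
    linear_combination epsB U * h3 + inB U (d (d' b)) * epsB_mul_self U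
  · refine AlgHom.ext fun c => ?_
    show endD d (endD d' ((Algebra.TensorProduct.includeRight : DualNumber k →ₐ[k] Γ(X.left, U.1) ⊗[k] DualNumber k) c)) =
      (Algebra.TensorProduct.includeRight : DualNumber k →ₐ[k] Γ(X.left, U.1) ⊗[k] DualNumber k) c
    exact (congrArg (endD d) (AlgHom.congr_fun (endD_comp_right d') c)).trans (AlgHom.congr_fun (endD_comp_right d) c)

variable [IsSeparated X.hom]

theorem specHom_ch_natural {U V : X.left.affineOpens} (h : U.1 ≤ V.1) {B B' : Type u} [CommRing B] [Algebra k B]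
    [CommRing B'] [Algebra k B'] (ψV : Γ(X.left, V.1) →ₐ[k] B') (ψU : Γ(X.left, U.1) →ₐ[k] B) (m : B' →ₐ[k] B)
    (e : m.comp ψV = ψU.comp (rs h)) : specHom m ≫ specHom ψV ≫ ch V = specHom ψU ≫ ch U := by
  rw [← Category.assoc, specHom_comp, e, ← specHom_comp, Category.assoc, ch_res]

theorem family_natural (U V : X.left.affineOpens) (h : U.1 ≤ V.1) :
    specHom (Algebra.TensorProduct.map (rs (k := k) h) (AlgHom.id k (DualNumber k))) ≫
        specHom (C' := Γ(X.left, V.1) ⊗[k] DualNumber k) (psiD (derOn D V)) ≫ ch V =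
      specHom (C' := Γ(X.left, U.1) ⊗[k] DualNumber k) (psiD (derOn D U)) ≫ ch U := by
  refine specHom_ch_natural h _ _ _ (AlgHom.ext fun b => ?_)
  show Algebra.TensorProduct.map (rs h) (AlgHom.id k (DualNumber k)) (psiD (derOn D V) b) =
    psiD (derOn D U) (rs h b)
  rw [psiD_apply, psiD_apply, map_add, map_mul, derOn_res]
  simp [epsB]

/-- The two charts of an overlap factor through the chart of the intersection. -/
theorem exists_lift_overlap (C : Type u) [CommRing C] [Algebra k C] (U V W : X.left.affineOpens)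
    (hU : W.1 ≤ U.1) (hV : W.1 ≤ V.1) (hW : U.1 ⊓ V.1 ≤ W.1) {P : Scheme.{u}}
    (p : P ⟶ (specOver k (Γ(X.left, U.1) ⊗[k] C)).left) (q : P ⟶ (specOver k (Γ(X.left, V.1) ⊗[k] C)).left)
    (w : p ≫ (pch U C).left = q ≫ (pch V C).left) :
    ∃ l : P ⟶ (specOver k (Γ(X.left, W.1) ⊗[k] C)).left,
      p = l ≫ (specHom (Algebra.TensorProduct.map (rs (k := k) hU) (AlgHom.id k C))).left ∧
      q = l ≫ (specHom (Algebra.TensorProduct.map (rs (k := k) hV) (AlgHom.id k C))).left := by
  have hr : Set.range (p ≫ (pch U C).left) ⊆ Set.range (pch W C).left := by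
    rintro _ ⟨z, rfl⟩
    refine mem_range_pch W _ (hW ⟨pch_fst_mem U (p z), ?_⟩)
    have e : (p ≫ (pch U C).left) z = (q ≫ (pch V C).left) z := by rw [w]
    rw [e]
    exact pch_fst_mem V (q z)
  refine ⟨IsOpenImmersion.lift (pch W C).left (p ≫ (pch U C).left) hr, ?_, ?_⟩
  · rw [← cancel_mono (pch U C).left, Category.assoc, ← Over.comp_left, pch_res, IsOpenImmersion.lift_fac]
  · rw [← cancel_mono (pch V C).left, Category.assoc, ← Over.comp_left, pch_res, IsOpenImmersion.lift_fac]
    exact w.symm

/-- The cover of `X ⊗ Spec C` by charts. -/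
def pchCover (X : Over (Spec (CommRingCat.of k))) (C : Type u) [CommRing C] [Algebra k C] :
    (X ⊗ specOver k C).left.OpenCover where
  I₀ := X.left.affineOpens
  X U := (specOver k (Γ(X.left, U.1) ⊗[k] C)).left
  f U := (pch U C).left
  mem₀ := by
    rw [Scheme.presieve₀_mem_precoverage_iff]
    refine ⟨fun z => ?_, inferInstance⟩
    obtain ⟨_, ⟨U, hU, rfl⟩, hzU, -⟩ := X.left.isBasis_affineOpens.exists_subset_of_mem_open
      (Set.mem_univ ((fst X (specOver k C)).left z)) isOpen_univ
    exact ⟨⟨U, hU⟩, mem_range_pch ⟨U, hU⟩ z hzU⟩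

/-- Morphisms on the charts compatible with restrictions glue. -/
theorem exists_glue {C : Type u} [CommRing C] [Algebra k C] {Y : Over (Spec (CommRingCat.of k))}
    (F : ∀ U : X.left.affineOpens, specOver k (Γ(X.left, U.1) ⊗[k] C) ⟶ Y)
    (hnat : ∀ (U V : X.left.affineOpens) (h : U.1 ≤ V.1),
      specHom (Algebra.TensorProduct.map (rs (k := k) h) (AlgHom.id k C)) ≫ F V = F U) :
    ∃ φ : X ⊗ specOver k C ⟶ Y, ∀ U, pch U C ≫ φ = F U := by
  haveI : IsSeparated (terminal.from X.left) := by
    rw [← terminal.comp_from X.hom]; infer_instance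
  have hF : ∀ U V : X.left.affineOpens, pullback.fst (pch U C).left (pch V C).left ≫ (F U).left =
      pullback.snd (pch U C).left (pch V C).left ≫ (F V).left := by
    intro U V
    obtain ⟨W, hU, hV, hW⟩ : ∃ W : X.left.affineOpens, W.1 ≤ U.1 ∧ W.1 ≤ V.1 ∧ U.1 ⊓ V.1 ≤ W.1 :=
      ⟨⟨U.1 ⊓ V.1, U.2.inf V.2⟩, inf_le_left, inf_le_right, le_rfl⟩
    obtain ⟨l, hp, hq⟩ := exists_lift_overlap C U V W hU hV hW _ _ pullback.condition
    rw [hp, hq, Category.assoc, Category.assoc, ← Over.comp_left, ← Over.comp_left, hnat, hnat]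
  have hf : ∀ U, (pch U C).left ≫ (pchCover X C).glueMorphisms (fun U => (F U).left) hF = (F U).left :=
    fun U => Scheme.Cover.ι_glueMorphisms (pchCover X C) _ hF U
  refine ⟨Over.homMk ((pchCover X C).glueMorphisms (fun U => (F U).left) hF) ?_,
    fun U => Over.OverMorphism.ext (hf U)⟩
  refine Scheme.Cover.hom_ext (pchCover X C) _ _ fun U => ?_
  show (pch U C).left ≫ _ = (pch U C).left ≫ (X ⊗ specOver k C).hom
  rw [← Category.assoc, hf]
  exact (Over.w (F U)).trans (Over.w (pch U C)).symm

/-- The family over the dual numbers of a vector field. -/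
theorem exists_family : ∃ φ : X ⊗ specOver k (DualNumber k) ⟶ X, ∀ U : X.left.affineOpens,
    pch U (DualNumber k) ≫ φ =
      specHom (C' := Γ(X.left, U.1) ⊗[k] DualNumber k) (psiD (derOn D U)) ≫ ch U :=
  exists_glue (fun U => specHom (C' := Γ(X.left, U.1) ⊗[k] DualNumber k) (psiD (derOn D U)) ≫ ch U)
    fun U V h => family_natural D U V h

theorem pch_endOf {φ : X ⊗ specOver k (DualNumber k) ⟶ X}
    (hφ : ∀ U : X.left.affineOpens, pch U (DualNumber k) ≫ φ = specHom (psiD (derOn D U)) ≫ ch U)
    (U : X.left.affineOpens) :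
    pch U (DualNumber k) ≫ AutSch.endOf φ = specHom (endD (derOn D U)) ≫ pch U (DualNumber k) := by
  refine CartesianMonoidalCategory.hom_ext _ _ ?_ ?_
  · rw [Category.assoc, Category.assoc, AutSch.endOf_fst, hφ, pch_fst, ← Category.assoc, specHom_comp]
    congr 2
    exact (endD_comp_inB _).symm
  · rw [Category.assoc, Category.assoc, AutSch.endOf_snd, pch_snd, specHom_comp]
    congr 1
    exact (endD_comp_right _).symm

/-- A formally unramified automorphism group scheme has no vector fields. -/
theorem der_eq_zero_of_formallyUnramified (hG : AutSch.Represents X G a) [FormallyUnramified G.hom]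
    (U : X.left.Opens) (s : Γ(X.left, U)) : D.app U s = 0 := by
  let D' : OmegaSh.Der X.hom (Coh.structureModule X.left) :=
    { d := fun {W} => -D.d
      d_mul := fun b c => by
        simp only [AddMonoidHom.neg_apply, D.d_mul, neg_add_rev, smul_neg]
        abel
      d_map := fun f x => by simp only [AddMonoidHom.neg_apply, D.d_map, map_neg]
      d_app := fun c => by simp only [AddMonoidHom.neg_apply, D.d_app, neg_zero] }
  obtain ⟨φ, hφ⟩ := exists_family D
  obtain ⟨φ', hφ'⟩ := exists_family D'
  have hsum : ∀ (V : X.left.affineOpens) b, derOn D V b + derOn D' V b = 0 := fun V b =>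
    (congrArg (derOn D V b + ·) (map_neg (OmegaSh.fnSect X.left V.1) (D.app V.1 b))).trans (add_neg_cancel _)
  have hid : ∀ {A : Type u} [CommRing A] [Algebra k A], specHom (AlgHom.id k A) = 𝟙 (specOver k A) :=
    fun {A} _ _ => by ext1; simp
  have hiso : AutSch.IsAutFamily φ := by
    refine ⟨AutSch.endOf φ', prod_hom_ext fun V => ?_, prod_hom_ext fun V => ?_⟩
    · rw [reassoc_of% (pch_endOf D hφ V), pch_endOf D' hφ' V, ← Category.assoc, specHom_comp,
        endD_comp _ _ (hsum V), hid]
      simp
    · rw [reassoc_of% (pch_endOf D' hφ' V), pch_endOf D hφ V, ← Category.assoc, specHom_comp,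
        endD_comp _ _ (fun b => (add_comm _ _).trans (hsum V b)), hid]
      simp
  obtain ⟨g, hg, -⟩ := (AutSch.represents_iff _ _).1 hG _ φ hiso
  let π : DualNumber k →ₐ[k] k := TrivSqZeroExt.fstHom k k k
  have hπ : Function.Surjective π := fun c => ⟨TrivSqZeroExt.inl c, TrivSqZeroExt.fst_inl k c⟩
  have hI : RingHom.ker π ^ 2 = ⊥ := by
    rw [pow_two, eq_bot_iff, Ideal.mul_le]
    intro x hx y hy
    rw [Ideal.mem_bot]
    have hx0 : x.fst = 0 := hx
    have hy0 : y.fst = 0 := hy
    ext <;> simp [hx0, hy0]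
  have hpg : specHom π ≫ g = 1 := by
    refine eq_one_of_famOf a hG ?_
    rw [AutSch.famOf_comp, hg]
    refine prod_hom_ext fun V => ?_
    rw [AutSch.pullFam, ← Category.assoc, pch_whiskerLeft, Category.assoc, hφ, pch_fst, ← Category.assoc,
      specHom_comp]
    congr 2
    refine AlgHom.ext fun b => ?_
    simp [psiD_apply, π, epsB]
  haveI : IsClosedImmersion (specHom π).left :=
    IsClosedImmersion.spec_of_surjective (CommRingCat.ofHom π.toRingHom) hπ
  haveI : IsAffine (specOver k (DualNumber k)).left := inferInstanceAs (IsAffine (Spec _))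
  have hker : IsNilpotent (specHom π).left.ker := by
    refine ⟨2, Scheme.IdealSheafData.ext_of_isAffine ?_⟩
    rw [Scheme.IdealSheafData.ideal_pow, Pi.pow_apply, Scheme.Hom.ker_apply]
    show RingHom.ker (Spec.map (CommRingCat.ofHom π.toRingHom)).appTop.hom ^ 2 = ⊥
    refine le_bot_iff.1 ?_
    rw [pow_two, Ideal.mul_le]
    intro x hx y hy
    rw [Ideal.mem_bot]
    let e := Scheme.ΓSpecIso (CommRingCat.of (DualNumber k))
    have hmem : ∀ z, z ∈ RingHom.ker (Spec.map (CommRingCat.ofHom π.toRingHom)).appTop.hom → π (e.hom z) = 0 :=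
      fun z hz => by
        have h := congr($(Scheme.ΓSpecIso_naturality (CommRingCat.ofHom π.toRingHom)) z)
        rw [CommRingCat.comp_apply, CommRingCat.comp_apply, show (Spec.map (CommRingCat.ofHom π.toRingHom)).appTop z = 0
          from hz, map_zero] at h
        exact h.symm
    have h2 : e.hom x * e.hom y = 0 := by
      have := Ideal.mul_mem_mul (show e.hom x ∈ RingHom.ker π from hmem x hx) (show e.hom y ∈ RingHom.ker π from hmem y hy)
      rw [show RingHom.ker π * RingHom.ker π = ⊥ from (pow_two (RingHom.ker π)).symm.trans hI] at this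
      exact this
    have h3 := congrArg e.inv (map_mul e.hom.hom x y)
    rw [h2, map_zero, ← CommRingCat.comp_apply, Iso.hom_inv_id] at h3
    exact h3
  have hg1 : g = 1 := Over.OverMorphism.ext (FormallyUnramified.hom_ext (specHom π).left hker G.hom
    (congrArg CommaMorphism.left (hpg.trans (MonObj.comp_one (specHom π)).symm)) ((Over.w g).trans (Over.w (1 : _ ⟶ G)).symm))
  rw [hg1, famOf_one] at hg
  have haff : ∀ (V : X.left.affineOpens) b, derOn D V b = 0 := fun V b => by
    have h := hφ V
    rw [← hg, pch_fst] at h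
    have h' := AlgHom.congr_fun (ch_comp_injective V h) b
    rw [psiD_apply] at h'
    replace h' : inB V (derOn D V b) * epsB V = 0 := by linear_combination (-1 : Γ(X.left, V.1) ⊗[k] DualNumber k) * h'
    have := congrArg (ev Γ(X.left, V.1) ((TrivSqZeroExt.sndHom k k : DualNumber k →ₗ[k] k))) h'
    simpa [ev_tmul, epsB] using this
  refine AModX.eq_of_locally (M := Coh.structureModule X.left) _ _ fun p hp => ?_
  obtain ⟨_, ⟨V, hV, rfl⟩, hpV, hle⟩ := X.left.isBasis_affineOpens.exists_subset_of_mem_open hp U.2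
  refine ⟨V, hle, hpV, ?_⟩
  rw [map_zero]
  have h := haff ⟨V, hV⟩ (X.left.presheaf.map (homOfLE hle).op s)
  exact ((der_res D hle s).symm.trans h)

end Der

end Groth.Agent.AutTan16

end
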